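import Mathlib

/-!
# `q`-linear endomorphisms over separably closed fields
-/

set_option autoImplicit false

universe u v

open Polynomial Module

namespace Groth.Agent.H18QLin

variable {k : Type u} [Field k] [IsSepClosed k] {σ : k →+* k} {q : ℕ}
  {V : Type v} [AddCommGroup V] [Module k V]

theorem exists_sub_pow_eq (hq : 1 < q) (hq0 : (q : k) = 0) (w : k) : ∃ c : k, c - c ^ q = w := by
  let P : k[X] := X ^ q - X + C w
  have hd : P.derivative = -1 := by simp [P, derivative_X_pow, hq0]
  have hsep : P.Separable := by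
    rw [separable_def, hd]
    exact (isCoprime_one_right).neg_right
  have hnd : P.natDegree = q := by
    have : P = X ^ q - (X - C w) := by simp [P]; ring
    rw [this, natDegree_sub_eq_left_of_natDegree_lt]
    · simp
    · simp; omega
  obtain ⟨c, hc⟩ := IsSepClosed.exists_root P (by
    intro h
    have := natDegree_eq_zero_iff_degree_le_zero.mpr h.le
    omega) hsep
  refine ⟨c, ?_⟩
  have : c ^ q - c + w = 0 := by simpa [P, IsRoot] using hc
  linear_combination -this

/-- the polynomials expressing the coordinates of a fixed vector in the last one -/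
noncomputable def coordPoly (q : ℕ) (a : ℕ → k) : ℕ → k[X]
  | 0 => C (a 0) * X ^ q
  | i + 1 => coordPoly q a i ^ q + C (a (i + 1)) * X ^ q

theorem X_pow_dvd_coordPoly (hq : 1 < q) (a : ℕ → k) : ∀ i, X ^ q ∣ coordPoly q a i
  | 0 => dvd_mul_left _ _
  | i + 1 => dvd_add ((X_pow_dvd_coordPoly hq a i).trans (dvd_pow_self _ (by omega))) (dvd_mul_left _ _)

theorem derivative_coordPoly (hq0 : (q : k) = 0) (a : ℕ → k) : ∀ i, (coordPoly q a i).derivative = 0
  | 0 => by simp [coordPoly, derivative_X_pow, hq0]
  | i + 1 => by simp [coordPoly, derivative_pow, derivative_X_pow, hq0]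

theorem eq_zero_of_coordPoly (hq : 1 < q) (a : ℕ → k) :
    ∀ i, coordPoly q a i = 0 → ∀ j ≤ i, a j = 0
  | 0, h, j, hj => by
    obtain rfl : j = 0 := by omega
    simpa [coordPoly] using h
  | i + 1, h, j, hj => by
    have h1 : X ^ (q * q) ∣ coordPoly q a i ^ q := by
      rw [pow_mul]; exact pow_dvd_pow_of_dvd (X_pow_dvd_coordPoly hq a i) q
    have h2 : (coordPoly q a i ^ q).coeff q = 0 := X_pow_dvd_iff.mp h1 q (by nlinarith)
    have h3 : a (i + 1) = 0 := by
      have := congrArg (fun P : k[X] => P.coeff q) h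
      simpa [coordPoly, h2] using this
    rcases Nat.eq_or_lt_of_le hj with rfl | hlt
    · exact h3
    · refine eq_zero_of_coordPoly hq a i ?_ j (by omega)
      have h4 : coordPoly q a i ^ q = 0 := by simpa [coordPoly, h3] using h
      exact (pow_eq_zero_iff (by omega)).mp h4

theorem exists_ne_zero_coordPoly_eval (hq : 1 < q) (hq0 : (q : k) = 0) (a : ℕ → k) (i : ℕ)
    (ha : ∃ j ≤ i, a j ≠ 0) : ∃ t : k, t ≠ 0 ∧ (coordPoly q a i).eval t = t := by
  let P := coordPoly q a i - X
  have hd : P.derivative = -1 := by simp [P, derivative_coordPoly hq0]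
  have hsep : P.Separable := by
    rw [separable_def, hd]
    exact (isCoprime_one_right).neg_right
  obtain ⟨R, hR⟩ : X ∣ P :=
    dvd_sub ((dvd_pow_self X (show q ≠ 0 by omega)).trans (X_pow_dvd_coordPoly hq a i)) dvd_rfl
  have hRsep : R.Separable := by rw [hR] at hsep; exact hsep.of_mul_right
  have hR0 : R.eval 0 = -1 := by
    have := congrArg (eval 0) (congrArg derivative hR)
    rw [hd] at this
    simpa using this.symm
  have hdeg : R.degree ≠ 0 := by
    intro h0
    obtain ⟨c, hc⟩ : ∃ c, R = C c := ⟨_, eq_C_of_degree_le_zero h0.le⟩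
    have hc' : c = -1 := by simpa [hc] using hR0
    have : coordPoly q a i = 0 := by
      have h5 : coordPoly q a i - X = X * C c := by rw [← hc]; exact hR
      rw [hc', map_neg, map_one] at h5
      linear_combination h5
    obtain ⟨j, hj, hj0⟩ := ha
    exact hj0 (eq_zero_of_coordPoly hq a i this j hj)
  obtain ⟨t, ht⟩ := IsSepClosed.exists_root R hdeg hRsep
  refine ⟨t, ?_, ?_⟩
  · rintro rfl
    rw [IsRoot, hR0] at ht
    simp at ht
  · have h5 := congrArg (eval t) hR
    rw [eval_mul, ht.eq_zero] at h5
    simpa [P, sub_eq_zero] using h5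

variable (φ : V →ₛₗ[σ] V)

theorem apply_sum_smul {ι : Type*} (s : Finset ι) (c : ι → k) (e : ι → V) :
    φ (∑ i ∈ s, c i • e i) = ∑ i ∈ s, σ (c i) • φ (e i) := by simp [map_sum]

theorem injective_of_span_range_eq_top [FiniteDimensional k V]
    (hss : Submodule.span k (Set.range φ) = ⊤) : Function.Injective φ := by
  let b := Module.finBasis k V
  have hsp : ⊤ ≤ Submodule.span k (Set.range (φ ∘ b)) := by
    rw [← hss, Submodule.span_le]
    rintro _ ⟨x, rfl⟩
    rw [← b.sum_repr x, apply_sum_smul]
    exact sum_mem fun i _ => Submodule.smul_mem _ _ (Submodule.subset_span ⟨i, rfl⟩)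
  have hli : LinearIndependent k (φ ∘ b) :=
    linearIndependent_of_top_le_span_of_card_eq_finrank hsp (by simp)
  refine (injective_iff_map_eq_zero φ).mpr fun x hx => ?_
  rw [← b.sum_repr x, apply_sum_smul] at hx
  have h0 := Fintype.linearIndependent_iff.mp hli _ hx
  rw [← b.sum_repr x]
  exact Finset.sum_eq_zero fun i _ => by rw [(map_eq_zero σ).mp (h0 i), zero_smul]

theorem exists_fixed_ne_zero (hq : 1 < q) (hq0 : (q : k) = 0) (hσ : ∀ x, σ x = x ^ q)
    [FiniteDimensional k V] (hss : Submodule.span k (Set.range φ) = ⊤) {v : V} (hv : v ≠ 0) :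
    ∃ x : V, x ≠ 0 ∧ φ x = x := by
  classical
  let e : ℕ → V := fun i => φ^[i] v
  have hex : ∃ m, e m ∈ Submodule.span k (Set.range fun i : Fin m => e i) := by
    by_contra hne
    push Not at hne
    have hli : ∀ m, LinearIndependent k (fun i : Fin m => e i) := by
      intro m
      induction m with
      | zero => exact linearIndependent_empty_type
      | succ m ih => exact linearIndependent_fin_succ'.mpr ⟨ih, hne m⟩
    simpa using (hli (finrank k V + 1)).fintype_card_le_finrank
  have hli : ∀ m ≤ Nat.find hex, LinearIndependent k (fun i : Fin m => e i) := by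
    intro m hm
    induction m with
    | zero => exact linearIndependent_empty_type
    | succ m ih => exact linearIndependent_fin_succ'.mpr ⟨ih (by omega), Nat.find_min hex (by omega)⟩
  obtain ⟨s, hs⟩ : ∃ s, Nat.find hex = s + 1 := by
    refine Nat.exists_eq_succ_of_ne_zero fun h0 => hv ?_
    have := Nat.find_spec hex
    rw [h0] at this
    simpa [e] using this
  obtain ⟨a', ha'⟩ := Submodule.mem_span_range_iff_exists_fun k |>.mp
    (hs ▸ Nat.find_spec hex : e (s + 1) ∈ Submodule.span k (Set.range fun i : Fin (s + 1) => e i))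
  let a : ℕ → k := fun i => if h : i < s + 1 then a' ⟨i, h⟩ else 0
  have ha : ∑ i ∈ Finset.range (s + 1), a i • e i = e (s + 1) := by
    rw [← ha', Finset.sum_range]
    simp [a, Fin.is_le]
  have hφ := injective_of_span_range_eq_top φ hss
  have hane : ∃ j ≤ s, a j ≠ 0 := by
    by_contra hne
    push Not at hne
    have h0 : e (s + 1) = φ^[s + 1] 0 := by
      rw [← ha, Finset.sum_eq_zero fun i hi => by rw [hne i (by simpa using hi), zero_smul]]
      exact (Function.iterate_fixed (map_zero φ) _).symm
    exact hv (hφ.iterate _ h0)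
  obtain ⟨t, ht0, ht⟩ := exists_ne_zero_coordPoly_eval hq hq0 a s hane
  let x : ℕ → k := fun i => (coordPoly q a i).eval t
  refine ⟨∑ i ∈ Finset.range (s + 1), x i • e i, fun h0 => ht0 ?_, ?_⟩
  · rw [Finset.sum_range] at h0
    have := Fintype.linearIndependent_iff.mp (hli (s + 1) hs.ge) (fun i => x i) h0 ⟨s, by omega⟩
    exact ht.symm.trans this
  · have he : ∀ i, φ (e i) = e (i + 1) := fun i => (Function.iterate_succ_apply' φ i v).symm
    rw [apply_sum_smul]
    simp_rw [he, hσ]
    rw [Finset.sum_range_succ, show x s = t from ht, ← ha, Finset.smul_sum,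
      Finset.sum_range_succ' (fun i => t ^ q • a i • e i), Finset.sum_range_succ' (fun i => x i • e i),
      ← add_assoc, ← Finset.sum_add_distrib]
    congr 1
    · refine Finset.sum_congr rfl fun i _ => ?_
      simp only [x, coordPoly, eval_add, eval_pow, eval_mul, eval_C, eval_X, add_smul, smul_smul]
      rw [mul_comm (a (i + 1))]
    · simp only [x, coordPoly, eval_pow, eval_mul, eval_C, eval_X, smul_smul]
      rw [mul_comm (a 0)]

theorem span_fixed_eq_top (hq : 1 < q) (hq0 : (q : k) = 0) (hσ : ∀ x, σ x = x ^ q)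
    [FiniteDimensional k V] (hss : Submodule.span k (Set.range φ) = ⊤) :
    Submodule.span k {x : V | φ x = x} = ⊤ := by
  classical
  set W := Submodule.span k {x : V | φ x = x} with hW
  have hmap : W ≤ W.comap φ := by
    rw [hW, Submodule.span_le]
    intro x hx
    show φ x ∈ W
    rw [hW, Set.mem_setOf.mp hx]
    exact Submodule.subset_span hx
  by_contra hne
  let ψ : (V ⧸ W) →ₛₗ[σ] (V ⧸ W) := W.mapQ W φ hmap
  have hψ : Submodule.span k (Set.range ψ) = ⊤ := by
    have : Submodule.map W.mkQ (Submodule.span k (Set.range φ)) = ⊤ := by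
      rw [hss, Submodule.map_top, Submodule.range_mkQ]
    rw [Submodule.map_span] at this
    rw [← top_le_iff, ← this]
    refine Submodule.span_mono ?_
    rintro _ ⟨_, ⟨x, rfl⟩, rfl⟩
    exact ⟨W.mkQ x, by simp [ψ]⟩
  obtain ⟨v, -, hv⟩ := SetLike.exists_of_lt (lt_top_iff_ne_top.mpr hne)
  obtain ⟨xb, hx0, hxfix⟩ := exists_fixed_ne_zero ψ hq hq0 hσ hψ
    (v := W.mkQ v) (by simpa using hv)
  obtain ⟨x, rfl⟩ := W.mkQ_surjective xb
  have hw : φ x - x ∈ W := by
    rw [← Submodule.Quotient.eq]
    simpa [ψ] using hxfix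
  have key : ∀ w ∈ W, ∃ y ∈ W, y - φ y = w := by
    intro w hw
    obtain ⟨n, f, g, rfl⟩ := Submodule.mem_span_set'.mp hw
    choose d hd using fun i => exists_sub_pow_eq (q := q) hq hq0 (f i)
    refine ⟨∑ i, d i • (g i : V), sum_mem fun i _ => Submodule.smul_mem _ _
      (Submodule.subset_span (g i).2), ?_⟩
    rw [apply_sum_smul, ← Finset.sum_sub_distrib]
    refine Finset.sum_congr rfl fun i _ => ?_
    rw [Set.mem_setOf.mp (g i).2, hσ, ← sub_smul, hd]
  obtain ⟨y, hy, hye⟩ := key _ hw
  refine hx0 ((Submodule.Quotient.mk_eq_zero W).mpr ?_)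
  have hfix : φ (x + y) = x + y := by
    rw [map_add]
    linear_combination (norm := abel) -hye
  have := sub_mem (Submodule.subset_span (R := k) (show x + y ∈ {x : V | φ x = x} from hfix)) hy
  simpa using this

theorem exists_basis_fixed (hq : 1 < q) (hq0 : (q : k) = 0) (hσ : ∀ x, σ x = x ^ q)
    [FiniteDimensional k V] (hss : Submodule.span k (Set.range φ) = ⊤) :
    ∃ b : Module.Basis (Fin (finrank k V)) k V, (∀ i, φ (b i) = b i) ∧
      ∀ v : V, φ v = v → ∀ i, (b.repr v i) ^ q = b.repr v i := by
  classical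
  obtain ⟨s, hs, hspan, hli⟩ := exists_linearIndependent k {x : V | φ x = x}
  rw [span_fixed_eq_top φ hq hq0 hσ hss] at hspan
  let B : Module.Basis s k V := Module.Basis.mk hli (by simpa using hspan.ge)
  haveI : Fintype s := FiniteDimensional.fintypeBasisIndex B
  let b := B.reindex (Fintype.equivFinOfCardEq (finrank_eq_card_basis B).symm)
  have hb : ∀ i, φ (b i) = b i := fun i => by
    simp only [b, B, Basis.reindex_apply, Basis.mk_apply]
    exact hs (Subtype.prop _)
  refine ⟨b, hb, fun v hv i => ?_⟩
  have h := congrArg (fun x => b.repr x i) hv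
  conv at h => lhs; rw [← b.sum_repr v, apply_sum_smul]
  simp only [hb, hσ] at h
  rw [b.repr_sum_self] at h
  exact h

theorem sub_apply_surjective (hq : 1 < q) (hq0 : (q : k) = 0) (hσ : ∀ x, σ x = x ^ q)
    [FiniteDimensional k V] : Function.Surjective fun v : V => v - φ v := by
  induction hn : finrank k V using Nat.strong_induction_on generalizing V with
  | _ n ih =>
    intro w
    set U := Submodule.span k (Set.range φ) with hU
    by_cases hss : U = ⊤
    · obtain ⟨b, hb, -⟩ := exists_basis_fixed φ hq hq0 hσ hss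
      choose d hd using fun i => exists_sub_pow_eq (q := q) hq hq0 (b.repr w i)
      refine ⟨∑ i, d i • b i, ?_⟩
      simp only [apply_sum_smul, hb, hσ, ← Finset.sum_sub_distrib, ← sub_smul, hd]
      exact b.sum_repr w
    · let φU : U →ₛₗ[σ] U :=
        { toFun := fun x => ⟨φ x, Submodule.subset_span ⟨_, rfl⟩⟩
          map_add' := fun x y => Subtype.ext (map_add φ _ _)
          map_smul' := fun c x => Subtype.ext (map_smulₛₗ φ c _) }
      have hlt : finrank k U < n := hn ▸ Submodule.finrank_lt hss
      obtain ⟨u, hu⟩ := ih _ hlt φU rfl ⟨φ w, Submodule.subset_span ⟨w, rfl⟩⟩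
      have hu' : (u : V) - φ u = φ w := congrArg Subtype.val hu
      refine ⟨w + u, ?_⟩
      simp only [map_add]
      linear_combination (norm := abel) hu'

theorem span_range_iterate_succ (n : ℕ) :
    Submodule.span k (Set.range φ^[n + 1]) =
      Submodule.span k (φ '' Submodule.span k (Set.range φ^[n])) := by
  refine le_antisymm (Submodule.span_mono ?_) (Submodule.span_le.mpr ?_)
  · rintro _ ⟨x, rfl⟩
    exact ⟨_, Submodule.subset_span ⟨x, rfl⟩, (Function.iterate_succ_apply' φ n x).symm⟩
  · rintro _ ⟨x, hx, rfl⟩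
    obtain ⟨m, f, g, rfl⟩ := Submodule.mem_span_set'.mp hx
    rw [apply_sum_smul]
    refine sum_mem fun i _ => Submodule.smul_mem _ _ ?_
    obtain ⟨z, hz⟩ := (g i).2
    exact Submodule.subset_span ⟨z, by rw [Function.iterate_succ_apply', hz]⟩

theorem span_range_iterate_antitone : Antitone fun n => Submodule.span k (Set.range φ^[n]) :=
  antitone_nat_of_succ_le fun n => Submodule.span_mono <| by
    rintro _ ⟨x, rfl⟩
    exact ⟨φ x, (Function.iterate_succ_apply φ n x).symm⟩

/-- the semisimple part -/
def semisimplePart : Submodule k V := ⨅ n : ℕ, Submodule.span k (Set.range φ^[n + 1])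

theorem apply_mem_semisimplePart {x : V} (hx : x ∈ semisimplePart φ) : φ x ∈ semisimplePart φ := by
  simp only [semisimplePart, Submodule.mem_iInf] at hx ⊢
  intro n
  refine span_range_iterate_antitone φ (Nat.le_succ (n + 1)) ?_
  simp only [Nat.succ_eq_add_one]
  rw [span_range_iterate_succ]
  exact Submodule.subset_span ⟨x, hx n, rfl⟩

theorem fixed_mem_semisimplePart {x : V} (hx : φ x = x) : x ∈ semisimplePart φ := by
  simp only [semisimplePart, Submodule.mem_iInf]
  exact fun n => Submodule.subset_span ⟨x, Function.iterate_fixed hx _⟩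

theorem exists_semisimplePart_eq [FiniteDimensional k V] :
    ∃ N, ∀ m, N ≤ m → Submodule.span k (Set.range φ^[m]) = semisimplePart φ := by
  obtain ⟨N, hN⟩ := IsArtinian.monotone_stabilizes (R := k) (M := V)
    ⟨fun n => OrderDual.toDual (Submodule.span k (Set.range φ^[n])),
      fun _ _ h => span_range_iterate_antitone φ h⟩
  refine ⟨N + 1, fun m hm => le_antisymm (le_iInf fun n => ?_) ?_⟩
  · rcases le_total (n + 1) m with h | h
    · exact span_range_iterate_antitone φ h
    · have e1 := OrderDual.toDual_inj.mp (hN m (by omega))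
      have e2 := OrderDual.toDual_inj.mp (hN (n + 1) (by omega))
      exact (e1.symm.trans e2).le
  · obtain ⟨m', rfl⟩ : ∃ m', m = m' + 1 := ⟨m - 1, by omega⟩
    exact iInf_le _ m'

theorem span_image_semisimplePart [FiniteDimensional k V] :
    Submodule.span k (φ '' semisimplePart φ) = semisimplePart φ := by
  obtain ⟨N, hN⟩ := exists_semisimplePart_eq φ
  have h := span_range_iterate_succ φ N
  rw [hN N le_rfl, hN (N + 1) (by omega)] at h
  exact h.symm

/-- the restriction to the semisimple part -/
def semisimpleRestrict : semisimplePart φ →ₛₗ[σ] semisimplePart φ where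
  toFun x := ⟨φ x, apply_mem_semisimplePart φ x.2⟩
  map_add' _ _ := Subtype.ext (map_add φ _ _)
  map_smul' c _ := Subtype.ext (map_smulₛₗ φ c _)

theorem span_range_semisimpleRestrict [FiniteDimensional k V] :
    Submodule.span k (Set.range (semisimpleRestrict φ)) = ⊤ := by
  refine Submodule.map_injective_of_injective (semisimplePart φ).injective_subtype ?_
  rw [Submodule.map_span, Submodule.map_top, Submodule.range_subtype, ← Set.range_comp]
  convert span_image_semisimplePart φ using 2
  ext x
  constructor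
  · rintro ⟨y, rfl⟩
    exact ⟨y, y.2, rfl⟩
  · rintro ⟨y, hy, rfl⟩
    exact ⟨⟨y, hy⟩, rfl⟩

omit [IsSepClosed k] in
/-- a `q`-linear map as a semilinear map for the `r`-th iterate of the Frobenius -/
def ofPPow (p : ℕ) [Fact p.Prime] [CharP k p] (r : ℕ) (ψ : V →+ V)
    (hψ : ∀ (c : k) (v : V), ψ (c • v) = c ^ (p ^ r) • ψ v) :
    V →ₛₗ[iterateFrobenius k p r] V :=
  { ψ with map_smul' := fun c v => by simpa [iterateFrobenius_def] using hψ c v }

end Groth.Agent.H18QLin
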